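import Groth.Agent.QReg6.Regular
import Groth.Agent.Nrm16Lib.RegImm
import Groth.Agent.CAlgH3.Serre
import Groth.Agent.CAlgH3.Depth

/-!
# Depth of the thickenings of a normal ideal generated by a regular sequence
-/

set_option autoImplicit false

universe u

open RingTheory.Sequence IsLocalRing
open scoped Pointwise

namespace Groth.Agent.NormPowH2

variable {C : Type u} [CommRing C]

theorem isSMulRegular_quotSMulTop_iff {M : Type u} [AddCommGroup M] [Module C M] (s t : C) :
    IsSMulRegular (QuotSMulTop s M) t ↔ ∀ x : M, t • x ∈ s • (⊤ : Submodule C M) → x ∈ s • (⊤ : Submodule C M) :=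
  isSMulRegular_quotient_iff_mem_of_smul_mem _ _

theorem mem_smul_top_quot_iff (I : Ideal C) (s a : C) :
    Submodule.Quotient.mk a ∈ s • (⊤ : Submodule C (C ⧸ I)) ↔ a ∈ I ⊔ Ideal.span {s} := by
  rw [Submodule.mem_smul_pointwise_iff_exists]
  constructor
  · rintro ⟨y, -, hy⟩
    obtain ⟨b, rfl⟩ := Submodule.Quotient.mk_surjective _ y
    rw [← Submodule.Quotient.mk_smul, Submodule.Quotient.eq] at hy
    rw [show a = s * b - (s • b - a) by rw [smul_eq_mul]; ring]
    exact sub_mem (Ideal.mem_sup_right (Ideal.mem_span_singleton'.2 ⟨b, mul_comm b s⟩)) (Ideal.mem_sup_left hy)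
  · intro h
    obtain ⟨i, hi, j, hj, rfl⟩ := Submodule.mem_sup.1 h
    obtain ⟨b, rfl⟩ := Ideal.mem_span_singleton'.1 hj
    refine ⟨Submodule.Quotient.mk b, trivial, ?_⟩
    rw [← Submodule.Quotient.mk_smul, Submodule.Quotient.eq, smul_eq_mul,
      show s * b - (i + b * s) = -i by ring]
    exact neg_mem hi

/-- The thickenings of an ideal generated by a regular sequence have depth at least two as soon as the
quotient does. -/
theorem two_le_depth_quotient_pow [IsLocalRing C] [IsNoetherianRing C] (rs : List C)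
    (hrs : IsWeaklyRegular C rs) (hm : ∀ r ∈ rs, r ∈ maximalIdeal C)
    (hd : 2 ≤ _root_.LocCoh.depth C (C ⧸ Ideal.ofList rs)) (n : ℕ) :
    2 ≤ _root_.LocCoh.depth C (C ⧸ Ideal.ofList rs ^ n) := by
  set q : Ideal C := Ideal.ofList rs with hq
  have hspan : Ideal.span (Set.range rs.get) = q := by rw [hq, Ideal.ofList, Set.range_list_get]
  have : Nontrivial (C ⧸ q) := Ideal.Quotient.nontrivial_iff.2 (ne_top_of_le_ne_top
    (maximalIdeal.isMaximal C).ne_top (Ideal.span_le.2 hm))
  obtain ⟨s, hs, hsreg⟩ := CAlgH3.exists_regular_of_one_le_depth (R := C) (M := C ⧸ q)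
    (le_trans (by norm_num) hd)
  have : Nontrivial (QuotSMulTop s (C ⧸ q)) := by
    refine Submodule.Quotient.nontrivial_iff.2 fun h => ?_
    have h1 : Submodule.Quotient.mk (1 : C) ∈ s • (⊤ : Submodule C (C ⧸ q)) := by rw [h]; trivial
    rw [mem_smul_top_quot_iff] at h1
    exact (maximalIdeal.isMaximal C).ne_top ((Ideal.eq_top_iff_one _).2
      (sup_le (Ideal.span_le.2 hm) ((Ideal.span_singleton_le_iff_mem _).2 hs) h1))
  have hd1 : 1 ≤ _root_.LocCoh.depth C (QuotSMulTop s (C ⧸ q)) := by
    rw [← CAlgH3.depth_quotSMulTop_add_one hs hsreg] at hd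
    rw [show (2 : ℕ∞) = 1 + 1 from rfl] at hd
    exact (ENat.add_le_add_iff_right ENat.one_ne_top).1 hd
  obtain ⟨t, ht, htreg⟩ := CAlgH3.exists_regular_of_one_le_depth (R := C) (M := QuotSMulTop s (C ⧸ q)) hd1
  -- first element
  have hsn : IsSMulRegular (C ⧸ q ^ n) s := by
    rw [isSMulRegular_quotient_iff_mem_of_smul_mem]
    intro a ha
    rw [smul_eq_mul, mul_comm, ← hspan] at ha
    rw [← hspan]
    refine QReg6.mem_pow_of_mul_mem_pow (Nrm16Lib.isQuasiRegular_get_of_isWeaklyRegular hrs) s (fun b hb => ?_) n a ha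
    rw [hspan] at hb ⊢
    have := (isSMulRegular_quotient_iff_mem_of_smul_mem q s).1 hsreg b
    rw [smul_eq_mul, mul_comm] at this
    exact this hb
  -- second element
  have hperm : IsWeaklyRegular C (s :: rs) := by
    refine IsLocalRing.isWeaklyRegular_of_perm_of_subset_maximalIdeal (rs := rs ++ [s]) ?_
      (List.perm_append_singleton s rs) (by
        intro r hr
        rcases List.mem_append.1 hr with hr | hr
        · exact hm r hr
        · rw [List.mem_singleton] at hr; exact hr ▸ hs)
    rw [isWeaklyRegular_append_iff, isWeaklyRegular_cons_iff]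
    refine ⟨hrs, ?_, IsWeaklyRegular.nil _ _⟩
    rw [isSMulRegular_quotient_iff_mem_of_smul_mem]
    intro b hb
    simp only [smul_eq_mul, Ideal.mul_top] at hb ⊢
    exact (isSMulRegular_quotient_iff_mem_of_smul_mem q s).1 hsreg b hb
  let J : Ideal C := Ideal.span {s}
  have hJ : IsWeaklyRegular (C ⧸ J) (List.ofFn rs.get) := by
    rw [List.ofFn_get]
    exact ((Submodule.quotEquivOfEq _ _ (Submodule.ideal_span_singleton_smul s ⊤).symm).trans
      (Submodule.quotEquivOfEq _ _ (by rw [smul_eq_mul, Ideal.mul_top]))).isWeaklyRegular_congr rs |>.1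
      ((isWeaklyRegular_cons_iff C s rs).1 hperm).2
  have htn : IsSMulRegular (QuotSMulTop s (C ⧸ q ^ n)) t := by
    rw [isSMulRegular_quotSMulTop_iff]
    intro x hx
    obtain ⟨a, rfl⟩ := Submodule.Quotient.mk_surjective _ x
    rw [← Submodule.Quotient.mk_smul, mem_smul_top_quot_iff, smul_eq_mul] at hx
    rw [mem_smul_top_quot_iff]
    let π := Ideal.Quotient.mk J
    have hg : ∀ b : C, b ∈ q ⊔ J ↔ π b ∈ Ideal.span (Set.range fun i => π (rs.get i)) := fun b => by
      rw [show Set.range (fun i => π (rs.get i)) = π '' Set.range rs.get from Set.range_comp π rs.get,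
        ← Ideal.map_span, hspan, ← Ideal.mem_quotient_iff_mem_sup]
    have key := QReg6.mem_pow_of_mul_mem_pow (QReg6.isQuasiRegular_quotient hJ) (π t) (fun b hb => ?_) n (π a) ?_
    · rw [← Ideal.mem_quotient_iff_mem_sup, Ideal.map_pow]
      rwa [show Set.range (fun i => π (rs.get i)) = π '' Set.range rs.get from Set.range_comp π rs.get,
        ← Ideal.map_span, hspan] at key
    · obtain ⟨b, rfl⟩ := Ideal.Quotient.mk_surjective b
      rw [← map_mul, ← hg, mul_comm] at hb
      rw [← hg]
      have := (isSMulRegular_quotSMulTop_iff s t).1 htreg (Submodule.Quotient.mk b)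
      rw [← Submodule.Quotient.mk_smul, mem_smul_top_quot_iff, mem_smul_top_quot_iff, smul_eq_mul] at this
      exact this hb
    · rw [show Set.range (fun i => π (rs.get i)) = π '' Set.range rs.get from Set.range_comp π rs.get,
        ← Ideal.map_span, hspan, ← map_mul, ← Ideal.map_pow, Ideal.mem_quotient_iff_mem_sup, mul_comm]
      exact hx
  rw [← CAlgH3.depth_quotSMulTop_add_one hs hsn, ← CAlgH3.depth_quotSMulTop_add_one ht htn, add_assoc]
  exact le_add_self.trans' (by norm_num)

end Groth.Agent.NormPowH2
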