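import Groth.Agent.NormPowH2.Depth
import Groth.Agent.FEtFF.Hartogs
import Groth.Agent.CommAlg6.CatenaryHeight
import Groth.Agent.CommAlg6.QuotRegular
import Groth.Prelude.Def_EGA4b

/-!
# Restriction to a big open of the thickenings of a normal prime generated by a regular sequence
-/

set_option autoImplicit false
set_option backward.isDefEq.respectTransparency false

universe u

open RingTheory.Sequence IsLocalRing CategoryTheory AlgebraicGeometry TopologicalSpace
open Groth.Agent.LocCoh (hq)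

namespace Groth.Agent.NormPowH2

variable {A : Type u} [CommRing A] [IsDomain A] [IsIntegrallyClosed A]

theorem two_le_height_of_not_regular (P : Ideal A) [P.IsPrime]
    (h : ¬ IsRegularLocalRing (Localization.AtPrime P)) [IsNoetherianRing A] : 2 ≤ P.height := by
  by_contra hlt
  rw [not_le, ← one_add_one_eq_two, ENat.lt_add_one_iff ENat.one_ne_top] at hlt
  have : IsIntegrallyClosed (Localization.AtPrime P) :=
    isIntegrallyClosed_of_isLocalization (R := A) (Localization.AtPrime P) P.primeCompl P.primeCompl_le_nonZeroDivisors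
  refine h (CAlgH3.isRegularLocalRing_of_normal_dim_le_one ?_)
  rw [IsLocalization.AtPrime.ringKrullDim_eq_height P (Localization.AtPrime P)]
  exact_mod_cast hlt

theorem depth_stalk [IsNoetherianRing A] (hcat : CAlg.IsCatenary A) (J : Ideal A)
    (hJ : ∀ x : PrimeSpectrum A, J ≤ x.asIdeal ↔ x ∉ EGA4.regLocus A)
    (p : Ideal A) [p.IsPrime] (rs : List A) (hrs : IsRegular A rs) (hp : Ideal.ofList rs = p)
    (hnorm : IsIntegrallyClosed (A ⧸ p)) (hht : p.height + J.height ≤ (p ⊔ J).height)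
    (Q : Ideal A) [Q.IsPrime] (hpQ : p ≤ Q) (hQ : (⟨Q, ‹_›⟩ : PrimeSpectrum A) ∉ EGA4.regLocus A) (m : ℕ) :
    2 ≤ _root_.LocCoh.depth (Localization.AtPrime Q)
      (Localization.AtPrime Q ⧸ (p.map (algebraMap A (Localization.AtPrime Q))) ^ m) := by
  have hJQ : J ≤ Q := (hJ ⟨Q, ‹_›⟩).2 hQ
  have hJ2 : 2 ≤ J.height := by
    rw [Ideal.height_eq_inf_minimalPrimes]
    refine le_iInf₂ fun P hP => ?_
    have : P.IsPrime := hP.isPrime
    exact two_le_height_of_not_regular P ((hJ ⟨P, this⟩).1 hP.1.2)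
  have h2 : 2 ≤ hq p Q := by
    obtain ⟨P₁, hP₁, -, h1⟩ := CommAlg6.exists_minimalPrimes_hq_eq_height p
    obtain ⟨P₂, hP₂, -, h2⟩ := CommAlg6.exists_minimalPrimes_hq_eq_height Q
    rw [IsDomain.minimalPrimes_eq_singleton_bot, Set.mem_singleton_iff] at hP₁ hP₂
    subst hP₁ hP₂
    have hadd := CommAlg6.hq_add_eq hcat (p := (⊥ : Ideal A)) (s := p) (q := Q) bot_le hpQ
    rw [h1, h2] at hadd
    have hfin : p.height ≠ ⊤ := Ideal.height_ne_top (Ideal.IsPrime.ne_top inferInstance)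
    refine (ENat.add_le_add_iff_left hfin).1 ?_
    rw [hadd]
    exact (add_le_add le_rfl hJ2).trans (hht.trans (Ideal.height_mono (sup_le hpQ hJQ)))
  let C := Localization.AtPrime Q
  have : (Q.map (Ideal.Quotient.mk p)).IsPrime := LocCoh.isPrime_map_mk hpQ
  obtain ⟨e⟩ := CommAlg6.localization_quotient_ringEquiv p Q hpQ
  let L := Localization.AtPrime (Q.map (Ideal.Quotient.mk p))
  have : IsIntegrallyClosed L :=
    isIntegrallyClosed_of_isLocalization (R := A ⧸ p) L (Q.map (Ideal.Quotient.mk p)).primeCompl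
      (Ideal.primeCompl_le_nonZeroDivisors _)
  have hdim : 2 ≤ ringKrullDim L := by
    rw [IsLocalization.AtPrime.ringKrullDim_eq_height (Q.map (Ideal.Quotient.mk p)) L]
    exact WithBot.coe_le_coe.2 h2
  have hd := CAlgH3.two_le_depth_of_normal hdim
  have : IsLocalRing (C ⧸ p.map (algebraMap A C)) := e.isLocalRing
  rw [CAlgH3.depth_ringEquiv e, CAlgH3.depth_quotient_ring] at hd
  have hmap : p.map (algebraMap A C) = Ideal.ofList (rs.map (algebraMap A C)) := by rw [← hp, Ideal.map_ofList]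
  rw [hmap] at hd ⊢
  refine two_le_depth_quotient_pow _ (hrs.toIsWeaklyRegular.of_isLocalization C Q.primeCompl) ?_ hd m
  intro r hr
  obtain ⟨a, ha, rfl⟩ := List.mem_map.1 hr
  rw [IsLocalization.AtPrime.to_map_mem_maximal_iff C Q]
  exact hpQ (hp ▸ Ideal.subset_span ha)

theorem restriction_bijective [IsNoetherianRing A] (hcat : CAlg.IsCatenary A) (J : Ideal A)
    (hJ : ∀ x : PrimeSpectrum A, J ≤ x.asIdeal ↔ x ∉ EGA4.regLocus A)
    (p : Ideal A) [p.IsPrime] (rs : List A) (hrs : IsRegular A rs) (hp : Ideal.ofList rs = p)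
    (hnorm : IsIntegrallyClosed (A ⧸ p)) (hht : p.height + J.height ≤ (p ⊔ J).height)
    (U : (Spec (CommRingCat.of A)).Opens)
    (hUreg : ∀ x : PrimeSpectrum A, p ≤ x.asIdeal → x ∈ EGA4.regLocus A → x ∈ U.1) (m : ℕ) (hm : 1 ≤ m) :
    Function.Bijective ((Spec (CommRingCat.of (A ⧸ p ^ m))).presheaf.map
      (homOfLE (le_top : Spec.map (CommRingCat.ofHom (Ideal.Quotient.mk (p ^ m))) ⁻¹ᵁ U ≤ ⊤)).op).hom := by
  refine FEtFF.Hartogs.bijective_restrict _ (fun x hx => ?_) (isAffineOpen_top _) (top_inf_eq _).symm le_top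
  let P : Ideal (A ⧸ p ^ m) := x.asIdeal
  let Q : Ideal A := P.comap (Ideal.Quotient.mk (p ^ m))
  have hpm : p ^ m ≤ Q := fun a ha => by
    show Ideal.Quotient.mk (p ^ m) a ∈ P
    rw [Ideal.Quotient.eq_zero_iff_mem.2 ha]
    exact zero_mem P
  have hpQ : p ≤ Q := (Ideal.IsPrime.pow_le_iff (P := Q) (by omega)).1 hpm
  have hQ : (⟨Q, inferInstance⟩ : PrimeSpectrum A) ∉ EGA4.regLocus A := fun hr => hx (hUreg _ hpQ hr)
  have hd := depth_stalk hcat J hJ p rs hrs hp hnorm hht Q hpQ hQ m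
  let e₁ : (Spec (CommRingCat.of (A ⧸ p ^ m))).presheaf.stalk x ≃+* Localization.AtPrime P :=
    (StructureSheaf.stalkIso (A ⧸ p ^ m) x).toRingEquiv.symm
  rw [CAlgH3.depth_ringEquiv e₁]
  have hPQ : Q.map (Ideal.Quotient.mk (p ^ m)) = P :=
    Ideal.map_comap_of_surjective _ Ideal.Quotient.mk_surjective P
  have : (Q.map (Ideal.Quotient.mk (p ^ m))).IsPrime := hPQ ▸ inferInstanceAs P.IsPrime
  obtain ⟨e₂⟩ := CommAlg6.localization_quotient_ringEquiv (p ^ m) Q hpm
  have : IsLocalRing (Localization.AtPrime Q ⧸ (p ^ m).map (algebraMap A (Localization.AtPrime Q))) :=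
    e₂.isLocalRing
  have key : 2 ≤ _root_.LocCoh.depth (Localization.AtPrime (Q.map (Ideal.Quotient.mk (p ^ m))))
      (Localization.AtPrime (Q.map (Ideal.Quotient.mk (p ^ m)))) := by
    rw [CAlgH3.depth_ringEquiv e₂, CAlgH3.depth_quotient_ring, Ideal.map_pow]
    exact hd
  revert key
  generalize hP' : Q.map (Ideal.Quotient.mk (p ^ m)) = P' at *
  subst hPQ
  exact id

end Groth.Agent.NormPowH2
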